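import Groth.Agent.S0005
import Mathlib.AlgebraicGeometry.ValuativeCriterion
import Mathlib.AlgebraicGeometry.SpreadingOut
import Mathlib.AlgebraicGeometry.Gluing

/-!
Morphisms from a regular scheme to a proper one extend over the points of codimension at most one.
-/

set_option autoImplicit false
universe u

open CategoryTheory CategoryTheory.Limits AlgebraicGeometry

namespace Groth.Agent.Lib.BiratPurity.Extend

open Groth.Agent.Lib.Purity.Restrict (top top_specializes top_isMax finite_range_top)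

variable {X Y S : Scheme.{u}}

section Points

variable [∀ x : X, IsDomain (X.presheaf.stalk x)]

theorem isReduced : IsReduced X :=
  have : ∀ x : X, _root_.IsReduced (X.presheaf.stalk x) := fun x => inferInstance
  isReduced_of_isReduced_stalk X

theorem top_eq_of_specializes {a b : X} (h : a ⤳ b) : top a = top b :=
  (top_isMax a (Groth.Agent.Lib.Purity.Restrict.top_specializes_of_specializes ((top_specializes a).trans h))).symm

theorem isOpen_top_eq [IsNoetherian X] (x : X) : IsOpen {w : X | top w = top x} := by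
  have key : ∀ t : X, t ∈ Set.range (top (W := X)) → {w : X | top w = t} = closure {t} := by
    rintro t ⟨s, rfl⟩
    ext w
    refine ⟨fun h => specializes_iff_mem_closure.1 ((show top w = top s from h) ▸ top_specializes w), fun h => ?_⟩
    show top w = top s
    rw [← top_eq_of_specializes (specializes_iff_mem_closure.2 h)]
    exact top_isMax s (top_specializes (top s))
  have hcompl : {w : X | top w = top x}ᶜ = ⋃ t ∈ Set.range (top (W := X)) \ {top x}, closure {t} := by
    ext w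
    simp only [Set.mem_compl_iff, Set.mem_setOf_eq, Set.mem_iUnion, Set.mem_diff, Set.mem_singleton_iff, exists_prop]
    constructor
    · exact fun h => ⟨top w, ⟨⟨w, rfl⟩, h⟩, specializes_iff_mem_closure.1 (top_specializes w)⟩
    · rintro ⟨t, ⟨ht, hne⟩, hw⟩ h
      rw [← key t ht] at hw
      exact hne (hw.symm.trans h)
  rw [← isClosed_compl_iff, hcompl]
  exact ((finite_range_top (W := X)).subset Set.diff_subset).isClosed_biUnion fun _ _ => isClosed_closure

/-- Maps agreeing on an open containing the maximal points agree. -/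
theorem ext_of_maximal (g : Y ⟶ S) [IsSeparated g] (U : X.Opens) (hU : ∀ x : X, top x ∈ U) (W : X.Opens)
    (a b : (W : Scheme.{u}) ⟶ Y) (hab : a ≫ g = b ≫ g)
    (h : X.homOfLE (inf_le_left : W ⊓ U ≤ W) ≫ a = X.homOfLE (inf_le_left : W ⊓ U ≤ W) ≫ b) : a = b := by
  have := isReduced (X := X)
  have : IsDominant (X.homOfLE (inf_le_left : W ⊓ U ≤ W)) := ⟨fun w => by
    rw [mem_closure_iff]
    intro O hO hwO
    obtain ⟨O', hO', rfl⟩ := isOpen_induced_iff.1 hO
    have hs : top w.1 ⤳ w.1 := top_specializes _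
    refine ⟨⟨top w.1, hs.mem_open W.2 w.2⟩, hs.mem_open hO' hwO,
      ⟨⟨top w.1, hs.mem_open W.2 w.2, hU _⟩, Subtype.ext ?_⟩⟩
    exact congrArg (fun φ : (↑(W ⊓ U) : Scheme.{u}) ⟶ X => φ.base ⟨top w.1, hs.mem_open W.2 w.2, hU _⟩)
      (X.homOfLE_ι (inf_le_left : W ⊓ U ≤ W))⟩
  exact ext_of_isDominant_of_isSeparated g hab _ h

end Points

theorem valuationRing_of_dim_le_one {O : Type u} [CommRing O] [IsDomain O] [IsLocalRing O] [IsNoetherianRing O]
    [IsIntegrallyClosed O] (h : ringKrullDim O ≤ 1) : ValuationRing O := by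
  have : Ring.KrullDimLE 1 O := Ring.krullDimLE_iff.mpr h
  have : Ring.DimensionLEOne O := ⟨fun {p} hp0 hp => Ring.krullDimLE_one_iff_of_noZeroDivisors.mp ‹_› p hp0 hp⟩
  have : IsDedekindDomain O := { }
  have : IsPrincipalIdealRing O := IsPrincipalIdealRing.of_finite_maximals
    ((Set.finite_singleton (IsLocalRing.maximalIdeal O)).subset fun I hI => IsLocalRing.eq_maximalIdeal hI)
  exact ValuationRing.iff_local_bezout_domain.mpr ⟨inferInstance, inferInstance⟩

/-- The extension near a point of codimension at most one. -/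
theorem exists_nhd [IsNoetherian X] (hX : ∀ x : X, IsDomain (X.presheaf.stalk x) ∧ IsIntegrallyClosed (X.presheaf.stalk x))
    (f : X ⟶ S) (g : Y ⟶ S) [IsProper g] (U : X.Opens) (hU : ∀ x : X, (∀ c : X, c ⤳ x → c = x) → x ∈ U)
    (a : (U : Scheme.{u}) ⟶ Y) (ha : a ≫ g = U.ι ≫ f) (x : X) (hx : ringKrullDim (X.presheaf.stalk x) ≤ 1) :
    ∃ (W : X.Opens) (_ : x ∈ W) (b : (W : Scheme.{u}) ⟶ Y), b ≫ g = W.ι ≫ f ∧
      X.homOfLE (inf_le_left : W ⊓ U ≤ W) ≫ b = X.homOfLE (inf_le_right : W ⊓ U ≤ U) ≫ a := by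
  have : ∀ x : X, IsDomain (X.presheaf.stalk x) := fun x => (hX x).1
  have := isReduced (X := X)
  have htop : ∀ w : X, top w ∈ U := fun w => hU _ fun c => top_isMax w
  have : IsIntegrallyClosed (X.presheaf.stalk x) := (hX x).2
  let O := X.presheaf.stalk x
  have : IsNoetherianRing O := inferInstance
  have : ValuationRing O := valuationRing_of_dim_le_one hx
  let K := FractionRing O
  let alg : Spec (CommRingCat.of K) ⟶ Spec O := Spec.map (CommRingCat.ofHom (algebraMap O K))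
  let ξ : Spec (CommRingCat.of K) ⟶ X := alg ≫ X.fromSpecStalk x
  have hξ : ∀ z, ξ.base z = top x := fun z => by
    show (X.fromSpecStalk x).base (alg.base z) = _
    refine congrArg (X.fromSpecStalk x).base (PrimeSpectrum.ext ?_)
    show Ideal.comap (algebraMap O K) (PrimeSpectrum.asIdeal (R := K) z) = ⊥
    have : (PrimeSpectrum.asIdeal (R := K) z).IsPrime := PrimeSpectrum.isPrime z
    rw [Ideal.eq_bot_of_prime (PrimeSpectrum.asIdeal (R := K) z)]
    exact Ideal.comap_bot_of_injective _ (IsFractionRing.injective O K)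
  have hrange : ∀ V : X.Opens, top x ∈ V → Set.range ξ.base ⊆ Set.range V.ι.base := fun V hV => by
    rintro _ ⟨z, rfl⟩
    rw [Scheme.Opens.range_ι, hξ]
    exact hV
  let ξU := IsOpenImmersion.lift U.ι ξ (hrange U (htop x))
  have hξU : ξU ≫ U.ι = ξ := IsOpenImmersion.lift_fac _ _ _
  let V : ValuativeCommSq g :=
    { R := O
      commRing := (X.presheaf.stalk x).commRing
      domain := inferInstance
      valuationRing := inferInstance
      K := K
      i₁ := ξU ≫ a
      i₂ := X.fromSpecStalk x ≫ f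
      commSq := ⟨by rw [Category.assoc, ha, ← Category.assoc, hξU]; exact Category.assoc _ _ _⟩ }
  have hex : ValuativeCriterion.Existence g := by
    have := (UniversallyClosed.eq_valuativeCriterion ▸ (inferInstance : UniversallyClosed g) :
      (ValuativeCriterion.Existence ⊓ @QuasiCompact) g)
    exact this.1
  obtain ⟨⟨φ, hφ₁, hφ₂⟩⟩ := (hex V).exists_lift
  obtain ⟨W₀, hxW₀, b₀, hb₀, hb₀g⟩ := spread_out_of_isGermInjective' f g (x := x) φ hφ₂
  let C : X.Opens := ⟨{w : X | top w = top x}, isOpen_top_eq x⟩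
  let W := W₀ ⊓ C
  refine ⟨W, ⟨hxW₀, rfl⟩, X.homOfLE (inf_le_left : W ≤ W₀) ≫ b₀, ?_, ?_⟩
  · rw [Category.assoc, hb₀g, Scheme.homOfLE_ι_assoc]
  have htW : top x ∈ W ⊓ U :=
    ⟨⟨(top_specializes x).mem_open W₀.2 hxW₀, top_eq_of_specializes (top_specializes x)⟩, htop x⟩
  let ι := IsOpenImmersion.lift (W ⊓ U).ι ξ (hrange _ htW)
  have hι : ι ≫ (W ⊓ U).ι = ξ := IsOpenImmersion.lift_fac _ _ _
  have : IsDominant ι := ⟨fun w => by
    rw [mem_closure_iff]
    intro O' hO' hwO'
    have hw : top w.1 = top x := w.2.1.2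
    obtain ⟨z⟩ : Nonempty ↥(Spec (CommRingCat.of K)) := inferInstanceAs (Nonempty (PrimeSpectrum K))
    refine ⟨ι.base z, ?_, ⟨z, rfl⟩⟩
    have hs : ι.base z ⤳ w := by
      rw [(W ⊓ U).ι.isEmbedding.isInducing.specializes_iff.symm]
      show (ι ≫ (W ⊓ U).ι).base z ⤳ (W ⊓ U).ι.base w
      rw [hι, hξ, ← hw]
      exact top_specializes _
    exact hs.mem_open hO' hwO'⟩
  refine ext_of_isDominant_of_isSeparated g ?_ ι ?_
  · simp only [Category.assoc, hb₀g, ha, Scheme.homOfLE_ι_assoc]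
  have h1 : ι ≫ X.homOfLE (inf_le_right : W ⊓ U ≤ U) = ξU := by
    rw [← cancel_mono U.ι, Category.assoc, Scheme.homOfLE_ι, hι, hξU]
  have h2 : ι ≫ X.homOfLE ((inf_le_left : W ⊓ U ≤ W).trans inf_le_left) = alg ≫ W₀.fromSpecStalkOfMem x hxW₀ := by
    rw [← cancel_mono W₀.ι, Category.assoc, Scheme.homOfLE_ι, hι, Category.assoc,
      Scheme.Opens.fromSpecStalkOfMem_ι]
  rw [Scheme.homOfLE_homOfLE_assoc, reassoc_of% h2, reassoc_of% h1, ← hb₀]
  exact hφ₁

/-- Extension over an open containing all points of codimension at most one. -/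
theorem exists_extend [IsNoetherian X]
    (hX : ∀ x : X, IsDomain (X.presheaf.stalk x) ∧ IsIntegrallyClosed (X.presheaf.stalk x))
    (f : X ⟶ S) (g : Y ⟶ S) [IsProper g] (U : X.Opens) (hU : ∀ x : X, (∀ c : X, c ⤳ x → c = x) → x ∈ U)
    (a : (U : Scheme.{u}) ⟶ Y) (ha : a ≫ g = U.ι ≫ f) :
    ∃ (X₁ : X.Opens) (hUX : U ≤ X₁) (a₁ : (X₁ : Scheme.{u}) ⟶ Y),
      (∀ x : X, ringKrullDim (X.presheaf.stalk x) ≤ 1 → x ∈ X₁) ∧ X.homOfLE hUX ≫ a₁ = a := by
  have : ∀ x : X, IsDomain (X.presheaf.stalk x) := fun x => (hX x).1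
  have htop : ∀ w : X, top w ∈ U := fun w => hU _ fun c => top_isMax w
  choose W hxW b hbg hb using fun x : {x : X // ringKrullDim (X.presheaf.stalk x) ≤ 1} =>
    exists_nhd hX f g U hU a ha x.1 x.2
  let Ws : Option {x : X // ringKrullDim (X.presheaf.stalk x) ≤ 1} → X.Opens := fun o => o.elim U W
  let bs : ∀ o, (Ws o : Scheme.{u}) ⟶ Y := fun o => match o with
    | none => a
    | some x => b x
  have hbs : ∀ o, bs o ≫ g = (Ws o).ι ≫ f := fun o => match o with
    | none => ha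
    | some x => hbg x
  have hba : ∀ o, X.homOfLE (inf_le_left : Ws o ⊓ U ≤ Ws o) ≫ bs o =
      X.homOfLE (inf_le_right : Ws o ⊓ U ≤ U) ≫ a := fun o => match o with
    | none => rfl
    | some x => hb x
  have hagree : ∀ o o', X.homOfLE (inf_le_left : Ws o ⊓ Ws o' ≤ Ws o) ≫ bs o =
      X.homOfLE (inf_le_right : Ws o ⊓ Ws o' ≤ Ws o') ≫ bs o' := fun o o' => by
    refine ext_of_maximal g U htop _ _ _ (by simp only [Category.assoc, hbs, Scheme.homOfLE_ι_assoc]) ?_
    rw [Scheme.homOfLE_homOfLE_assoc, Scheme.homOfLE_homOfLE_assoc,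
      ← Scheme.homOfLE_homOfLE_assoc X (le_inf (inf_le_left.trans inf_le_left) inf_le_right :
        (Ws o ⊓ Ws o') ⊓ U ≤ Ws o ⊓ U) (inf_le_left : Ws o ⊓ U ≤ Ws o), hba o,
      ← Scheme.homOfLE_homOfLE_assoc X (le_inf (inf_le_left.trans inf_le_right) inf_le_right :
        (Ws o ⊓ Ws o') ⊓ U ≤ Ws o' ⊓ U) (inf_le_left : Ws o' ⊓ U ≤ Ws o'), hba o',
      Scheme.homOfLE_homOfLE_assoc, Scheme.homOfLE_homOfLE_assoc]
  refine ⟨⨆ o, Ws o, le_iSup Ws none, (Scheme.Opens.iSupOpenCover Ws).glueMorphisms bs (fun o o' => ?_),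
    fun x hx => (le_iSup Ws (some ⟨x, hx⟩)) (hxW ⟨x, hx⟩), ?_⟩
  · let p₁ : pullback (X.homOfLE (le_iSup Ws o)) (X.homOfLE (le_iSup Ws o')) ⟶ (Ws o : Scheme.{u}) := pullback.fst _ _
    let p₂ : pullback (X.homOfLE (le_iSup Ws o)) (X.homOfLE (le_iSup Ws o')) ⟶ (Ws o' : Scheme.{u}) := pullback.snd _ _
    have hp : p₁ ≫ (Ws o).ι = p₂ ≫ (Ws o').ι := by
      have h := congrArg (· ≫ (⨆ o, Ws o).ι)
        (pullback.condition (f := X.homOfLE (le_iSup Ws o)) (g := X.homOfLE (le_iSup Ws o')))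
      simpa [p₁, p₂] using h
    let m := IsOpenImmersion.lift (Ws o ⊓ Ws o').ι (p₁ ≫ (Ws o).ι) (by
      rintro _ ⟨z, rfl⟩
      rw [Scheme.Opens.range_ι]
      refine ⟨(p₁.base z).2, ?_⟩
      rw [hp]
      exact (p₂.base z).2)
    have hm : m ≫ (Ws o ⊓ Ws o').ι = p₁ ≫ (Ws o).ι := IsOpenImmersion.lift_fac _ _ _
    have hm1 : m ≫ X.homOfLE (inf_le_left : Ws o ⊓ Ws o' ≤ Ws o) = p₁ := by
      rw [← cancel_mono (Ws o).ι, Category.assoc, Scheme.homOfLE_ι, hm]
    have hm2 : m ≫ X.homOfLE (inf_le_right : Ws o ⊓ Ws o' ≤ Ws o') = p₂ := by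
      rw [← cancel_mono (Ws o').ι, Category.assoc, Scheme.homOfLE_ι, hm, hp]
    show p₁ ≫ bs o = p₂ ≫ bs o'
    rw [← hm1, ← hm2, Category.assoc, Category.assoc, hagree]
  · exact (Scheme.Opens.iSupOpenCover Ws).ι_glueMorphisms bs _ none

end Groth.Agent.Lib.BiratPurity.Extend
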