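import Groth.Agent.Lib.BiratPurity.Extend

/-!
Birational proper regular schemes have equivalent categories of finite étale covers.
-/

set_option autoImplicit false
universe u

open CategoryTheory CategoryTheory.Limits AlgebraicGeometry

namespace Groth.Agent.Lib.BiratPurity.Main

open Groth.Agent.Lib.Purity.Restrict (top top_specializes)

theorem normal {X : Scheme.{u}} (hX : ∀ x : X, IsRegularLocalRing (X.presheaf.stalk x)) (x : X) :
    IsDomain (X.presheaf.stalk x) ∧ IsIntegrallyClosed (X.presheaf.stalk x) := by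
  have := hX x
  exact ⟨Groth.Agent.Lib.Regular.Quotient.isDomain (X.presheaf.stalk x),
    Groth.Agent.Lib.Regular.UFD.isIntegrallyClosed (X.presheaf.stalk x)⟩

theorem mem_of_dense {X : Scheme.{u}} [IsNoetherian X] [∀ x : X, IsDomain (X.presheaf.stalk x)]
    {U : X.Opens} (hU : Dense (U : Set X)) (x : X) (hx : ∀ c : X, c ⤳ x → c = x) : x ∈ U := by
  obtain ⟨w, hw, hwU⟩ := hU.inter_open_nonempty _ (Extend.isOpen_top_eq x) ⟨x, rfl⟩
  have h : top x = x := hx _ (top_specializes x)
  exact h ▸ (show top w = top x from hw) ▸ (top_specializes w).mem_open U.2 hwU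

/-- Covers of `Y` restricted along a birational map extend to `X`. -/
theorem exists_lift {X Y S : Scheme.{u}} [IsNoetherian X] (hX : ∀ x : X, IsRegularLocalRing (X.presheaf.stalk x))
    (f : X ⟶ S) (g : Y ⟶ S) [IsProper g] (U : X.Opens) (hU : Dense (U : Set X))
    (a : (U : Scheme.{u}) ⟶ Y) (ha : a ≫ g = U.ι ≫ f) (W : FEt.Cat Y) :
    ∃ W' : FEt.Cat X, Nonempty ((FEt.restrict U.ι).obj W' ≅ (FEt.restrict a).obj W) := by
  have : ∀ x : X, IsDomain (X.presheaf.stalk x) := fun x => (normal hX x).1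
  obtain ⟨X₁, hUX, a₁, hdim, ha₁⟩ := Extend.exists_extend (normal hX) f g U (mem_of_dense hU) a ha
  have h2 : ∀ x : X, x ∉ X₁ → (2 : WithBot ℕ∞) ≤ ringKrullDim (X.presheaf.stalk x) := by
    intro x hx
    have h := lt_of_not_ge fun hle => hx (hdim x hle)
    revert h
    cases ringKrullDim (X.presheaf.stalk x) with
    | bot => simp
    | coe d =>
      intro h
      have h' : (1 : ℕ∞) < d := WithBot.coe_lt_coe.1 h
      exact WithBot.coe_le_coe.2 ((one_add_one_eq_two (R := ℕ∞)).symm.trans_le (Order.add_one_le_of_lt h'))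
  have := Groth.Agent.S0005.result X hX X₁ h2
  let W₁ := (FEt.restrict a₁).obj W
  let W' := (FEt.restrict X₁.ι).objPreimage W₁
  let i : (FEt.restrict X₁.ι).obj W' ≅ W₁ := (FEt.restrict X₁.ι).objObjPreimageIso W₁
  refine ⟨W', ⟨?_⟩⟩
  exact (MorphismProperty.Over.pullbackComp (X.homOfLE hUX) X₁.ι U.ι (by rw [Scheme.homOfLE_ι])).app W' ≪≫
    (FEt.restrict (X.homOfLE hUX)).mapIso i ≪≫
    ((MorphismProperty.Over.pullbackComp (X.homOfLE hUX) a₁ a ha₁.symm).app W).symm

/-- Base change along the identity. -/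
noncomputable def restrictId (X : Scheme.{u}) : FEt.restrict (𝟙 X) ≅ 𝟭 (FEt.Cat X) :=
  NatIso.ofComponents
    (fun A => MorphismProperty.Over.isoMk
      { hom := pullback.fst A.hom (𝟙 X)
        inv := pullback.lift (𝟙 _) A.hom (by simp)
        hom_inv_id := by
          apply pullback.hom_ext
          · exact (Category.assoc _ _ _).trans (((pullback.fst A.hom (𝟙 X)) ≫= pullback.lift_fst _ _ _).trans
              ((Category.comp_id _).trans (Category.id_comp _).symm))
          · exact (Category.assoc _ _ _).trans (((pullback.fst A.hom (𝟙 X)) ≫= pullback.lift_snd _ _ _).trans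
              ((pullback.condition.trans (Category.comp_id _)).trans (Category.id_comp _).symm))
        inv_hom_id := pullback.lift_fst _ _ _ }
      ((pullback.condition (f := A.hom) (g := 𝟙 X)).trans (Category.comp_id _)))
    (fun {A B} m => by ext; exact pullback.lift_fst _ _ _)

/-- The equivalence. -/
theorem exists_equivalence {k : Type u} [Field k] {X Y : Scheme.{u}} (f : X ⟶ Spec (CommRingCat.of k))
    (g : Y ⟶ Spec (CommRingCat.of k)) [IsProper f] [IsProper g] [IsLocallyNoetherian X] [IsLocallyNoetherian Y]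
    (hX : ∀ x : X, IsRegularLocalRing (X.presheaf.stalk x))
    (hY : ∀ y : Y, IsRegularLocalRing (Y.presheaf.stalk y)) (U : X.Opens) (V : Y.Opens)
    (hU : Dense (U : Set X)) (hV : Dense (V : Set Y)) (e : (U : Scheme.{u}) ≅ (V : Scheme.{u}))
    (he : e.hom ≫ V.ι ≫ g = U.ι ≫ f) :
    ∃ Φ : FEt.Cat X ≌ FEt.Cat Y,
      Nonempty (FEt.restrict U.ι ≅ Φ.functor ⋙ FEt.restrict V.ι ⋙ FEt.restrict e.hom) := by
  have : CompactSpace X := QuasiCompact.compactSpace_of_compactSpace f
  have : CompactSpace Y := QuasiCompact.compactSpace_of_compactSpace g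
  have : IsNoetherian X := { }
  have : IsNoetherian Y := { }
  have : ∀ x : X, IsDomain (X.presheaf.stalk x) := fun x => (normal hX x).1
  have : ∀ y : Y, IsDomain (Y.presheaf.stalk y) := fun y => (normal hY y).1
  obtain ⟨hRfull, hRfaith⟩ :=
    Groth.Agent.Lib.Purity.Restrict.full_and_faithful (normal hX) U (mem_of_dense hU)
  obtain ⟨hVfull, hVfaith⟩ :=
    Groth.Agent.Lib.Purity.Restrict.full_and_faithful (normal hY) V (mem_of_dense hV)
  let E : FEt.Cat (V : Scheme.{u}) ≌ FEt.Cat (U : Scheme.{u}) :=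
    CategoryTheory.Equivalence.mk (FEt.restrict e.hom) (FEt.restrict e.inv)
      ((restrictId _).symm ≪≫
        MorphismProperty.Over.pullbackComp e.inv e.hom (𝟙 _) e.inv_hom_id.symm)
      ((MorphismProperty.Over.pullbackComp e.hom e.inv (𝟙 _) e.hom_inv_id.symm).symm ≪≫
        restrictId _)
  have : (FEt.restrict e.hom).IsEquivalence := E.isEquivalence_functor
  let R := FEt.restrict U.ι
  let G := FEt.restrict V.ι ⋙ FEt.restrict e.hom
  have hA : ∀ W : FEt.Cat Y, ∃ W' : FEt.Cat X, Nonempty (R.obj W' ≅ G.obj W) := fun W => by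
    obtain ⟨W', ⟨i⟩⟩ := exists_lift hX f g U hU (e.hom ≫ V.ι) (by rw [Category.assoc, he]) W
    exact ⟨W', ⟨i ≪≫ (MorphismProperty.Over.pullbackComp e.hom V.ι).app W⟩⟩
  have hB : ∀ W' : FEt.Cat X, ∃ W : FEt.Cat Y, Nonempty (G.obj W ≅ R.obj W') := fun W' => by
    obtain ⟨W, ⟨i⟩⟩ := exists_lift hY g f V hV (e.inv ≫ U.ι) (by
      rw [Category.assoc, ← he, e.inv_hom_id_assoc]) W'
    refine ⟨W, ⟨(FEt.restrict e.hom).mapIso i ≪≫ ?_⟩⟩
    exact ((MorphismProperty.Over.pullbackComp e.hom (e.inv ≫ U.ι) U.ι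
      (by rw [e.hom_inv_id_assoc])).app W').symm
  choose Gobj Giso using hB
  let hG : G.FullyFaithful := Functor.FullyFaithful.ofFullyFaithful G
  let c := fun W' => (Giso W').some
  let Φ : FEt.Cat X ⥤ FEt.Cat Y :=
    { obj := Gobj
      map := fun {A B} m => hG.preimage ((c A).hom ≫ R.map m ≫ (c B).inv)
      map_id := fun A => hG.map_injective (by simp)
      map_comp := fun {A B C} m m' => hG.map_injective (by simp) }
  let η : R ≅ Φ ⋙ G := NatIso.ofComponents (fun A => (c A).symm) (fun {A B} m => by simp [Φ])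
  have : (Φ ⋙ G).Full := Functor.Full.of_iso η
  have : (Φ ⋙ G).Faithful := Functor.Faithful.of_iso η
  have : Φ.Faithful := Functor.Faithful.of_comp Φ G
  have : Φ.Full := Functor.Full.of_comp_faithful Φ G
  have : Φ.EssSurj := ⟨fun W => by
    obtain ⟨W', ⟨i⟩⟩ := hA W
    exact ⟨W', ⟨hG.preimageIso (c W' ≪≫ i)⟩⟩⟩
  have : Φ.IsEquivalence := { }
  exact ⟨Φ.asEquivalence, ⟨η⟩⟩

end Groth.Agent.Lib.BiratPurity.Main
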